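import Mathlib
import Groth.Agent.S4824
import Groth.Agent.Lib.Helper4.GIMain1
import Groth.Agent.Lib.Helper7.GeomRedGen.Main

set_option linter.style.haveILetI false
set_option linter.unusedVariables false
set_option linter.unusedSectionVars false
set_option autoImplicit false
set_option backward.isDefEq.respectTransparency.types false
set_option synthInstance.maxHeartbeats 400000
set_option maxHeartbeats 1600000

universe u

/-! helper7: specializations of a geometrically irreducible polynomial over a domain stay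
irreducible over a nonempty open subset of the spectrum. -/

open CategoryTheory CategoryTheory.Limits AlgebraicGeometry TopologicalSpace

namespace Groth.Agent.Helper7.IrrSpec

section Ring

variable {A κ : Type u} [CommRing A] [CommRing κ] {n : ℕ} (P : MvPolynomial (Fin n) A)
  (ψ : A →+* κ)

/-- the hypersurface algebra. -/
abbrev B : Type u := MvPolynomial (Fin n) A ⧸ Ideal.span {P}

/-- the hypersurface algebra of the specialized polynomial. -/
abbrev Cq : Type u := MvPolynomial (Fin n) κ ⧸ Ideal.span {MvPolynomial.map ψ P}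

/-- the comparison map of hypersurface algebras. -/
noncomputable def β : B P →+* Cq P ψ :=
  Ideal.quotientMap _ (MvPolynomial.map ψ) (by
    rw [Ideal.span_le, Set.singleton_subset_iff]
    exact Ideal.subset_span rfl)

theorem β_mk (x : MvPolynomial (Fin n) A) :
    β P ψ (Ideal.Quotient.mk _ x) = Ideal.Quotient.mk _ (MvPolynomial.map ψ x) :=
  Ideal.quotientMap_mk

theorem algebraMap_B (a : A) :
    algebraMap A (B P) a = Ideal.Quotient.mk _ (MvPolynomial.C a) := rfl

theorem algebraMap_Cq (k : κ) :
    algebraMap κ (Cq P ψ) k = Ideal.Quotient.mk _ (MvPolynomial.C k) := rfl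

theorem comm_apply (a : A) :
    β P ψ (algebraMap A (B P) a) = algebraMap κ (Cq P ψ) (ψ a) := by
  rw [algebraMap_B, β_mk, MvPolynomial.map_C, algebraMap_Cq]

theorem exists_desc {D : Type u} [CommRing D] (b : B P →+* D) (c : κ →+* D)
    (hbc : b.comp (algebraMap A (B P)) = c.comp ψ) :
    ∃ d : Cq P ψ →+* D, d.comp (β P ψ) = b ∧ d.comp (algebraMap κ (Cq P ψ)) = c := by
  have hb : b.comp (Ideal.Quotient.mk (Ideal.span {P})) =
      MvPolynomial.eval₂Hom (c.comp ψ)
        (fun i => b (Ideal.Quotient.mk _ (MvPolynomial.X i))) := by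
    apply MvPolynomial.ringHom_ext
    · intro a
      have h := RingHom.congr_fun hbc a
      simp only [RingHom.comp_apply] at h
      simp only [RingHom.comp_apply, MvPolynomial.eval₂Hom_C]
      exact h
    · intro i
      simp only [RingHom.comp_apply, MvPolynomial.eval₂Hom_X']
  have hker : ∀ a ∈ Ideal.span {MvPolynomial.map ψ P},
      MvPolynomial.eval₂Hom c (fun i => b (Ideal.Quotient.mk _ (MvPolynomial.X i))) a = 0 := by
    intro a ha
    have hle : Ideal.span {MvPolynomial.map ψ P} ≤ RingHom.ker
        (MvPolynomial.eval₂Hom c (fun i => b (Ideal.Quotient.mk _ (MvPolynomial.X i)))) := by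
      rw [Ideal.span_le, Set.singleton_subset_iff, SetLike.mem_coe, RingHom.mem_ker,
        MvPolynomial.coe_eval₂Hom, MvPolynomial.eval₂_map]
      have h1 := RingHom.congr_fun hb P
      rw [MvPolynomial.coe_eval₂Hom] at h1
      have hz : (Ideal.Quotient.mk (Ideal.span {P})) P = 0 :=
        Ideal.Quotient.eq_zero_iff_mem.mpr (Ideal.subset_span (Set.mem_singleton P))
      rw [← h1, RingHom.comp_apply, hz, map_zero]
    exact hle ha
  refine ⟨Ideal.Quotient.lift _ (MvPolynomial.eval₂Hom c
    (fun i => b (Ideal.Quotient.mk _ (MvPolynomial.X i)))) hker, ?_, ?_⟩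
  · apply Ideal.Quotient.ringHom_ext
    apply MvPolynomial.ringHom_ext
    · intro a
      have h := RingHom.congr_fun hbc a
      simp only [RingHom.comp_apply] at h
      simp only [RingHom.comp_apply, β_mk, MvPolynomial.map_C, Ideal.Quotient.lift_mk,
        MvPolynomial.eval₂Hom_C]
      first | exact h | exact h.symm
    · intro i
      simp only [RingHom.comp_apply, β_mk, MvPolynomial.map_X, Ideal.Quotient.lift_mk,
        MvPolynomial.eval₂Hom_X']
  · ext k
    simp only [RingHom.comp_apply, algebraMap_Cq, Ideal.Quotient.lift_mk,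
      MvPolynomial.eval₂Hom_C]

theorem desc_unique {D : Type u} [CommRing D] (d₁ d₂ : Cq P ψ →+* D)
    (h1 : d₁.comp (β P ψ) = d₂.comp (β P ψ))
    (h2 : d₁.comp (algebraMap κ (Cq P ψ)) = d₂.comp (algebraMap κ (Cq P ψ))) : d₁ = d₂ := by
  apply Ideal.Quotient.ringHom_ext
  apply MvPolynomial.ringHom_ext
  · intro k
    have := RingHom.congr_fun h2 k
    rw [RingHom.comp_apply, RingHom.comp_apply, algebraMap_Cq] at this
    rw [RingHom.comp_apply, RingHom.comp_apply]
    exact this
  · intro i
    have := RingHom.congr_fun h1 (Ideal.Quotient.mk _ (MvPolynomial.X i))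
    rw [RingHom.comp_apply, RingHom.comp_apply, β_mk, MvPolynomial.map_X] at this
    rw [RingHom.comp_apply, RingHom.comp_apply]
    exact this

theorem isPushout_ring :
    IsPushout (CommRingCat.ofHom (algebraMap A (B P))) (CommRingCat.ofHom ψ)
      (CommRingCat.ofHom (β P ψ)) (CommRingCat.ofHom (algebraMap κ (Cq P ψ))) := by
  have hcomm : CommRingCat.ofHom (algebraMap A (B P)) ≫ CommRingCat.ofHom (β P ψ) =
      CommRingCat.ofHom ψ ≫ CommRingCat.ofHom (algebraMap κ (Cq P ψ)) := by
    ext a
    exact comm_apply P ψ a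
  have hs : ∀ s : PushoutCocone (CommRingCat.ofHom (algebraMap A (B P))) (CommRingCat.ofHom ψ),
      s.inl.hom.comp (algebraMap A (B P)) = s.inr.hom.comp ψ := fun s =>
    congrArg CommRingCat.Hom.hom s.condition
  refine IsPushout.of_isColimit (c := PushoutCocone.mk _ _ hcomm)
    (PushoutCocone.IsColimit.mk hcomm
      (fun s => CommRingCat.ofHom
        (Classical.choose (exists_desc P ψ s.inl.hom s.inr.hom (hs s))))
      (fun s => ?_) (fun s => ?_) (fun s m h1 h2 => ?_))
  · exact CommRingCat.hom_ext
      (Classical.choose_spec (exists_desc P ψ s.inl.hom s.inr.hom (hs s))).1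
  · exact CommRingCat.hom_ext
      (Classical.choose_spec (exists_desc P ψ s.inl.hom s.inr.hom (hs s))).2
  · apply CommRingCat.hom_ext
    rw [CommRingCat.hom_ofHom]
    apply desc_unique P ψ
    · rw [(Classical.choose_spec (exists_desc P ψ s.inl.hom s.inr.hom (hs s))).1]
      exact congrArg CommRingCat.Hom.hom h1
    · rw [(Classical.choose_spec (exists_desc P ψ s.inl.hom s.inr.hom (hs s))).2]
      exact congrArg CommRingCat.Hom.hom h2

end Ring

section Field

variable {A κ : Type u} [CommRing A] [Field κ] {n : ℕ} (P : MvPolynomial (Fin n) A)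
  (ψ : A →+* κ)

theorem isDomain_of_irreducible (h : Irreducible (MvPolynomial.map ψ P)) :
    IsDomain (Cq P ψ) := by
  haveI hprime : (Ideal.span {MvPolynomial.map ψ P}).IsPrime :=
    (Ideal.span_singleton_prime h.ne_zero).mpr h.prime
  exact Ideal.Quotient.isDomain _

theorem irreducible_of_isDomain [IsDomain (Cq P ψ)] (h0 : MvPolynomial.map ψ P ≠ 0) :
    Irreducible (MvPolynomial.map ψ P) := by
  have hprime : (Ideal.span {MvPolynomial.map ψ P}).IsPrime :=
    (Ideal.Quotient.isDomain_iff_prime _).mp inferInstance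
  exact ((Ideal.span_singleton_prime h0).mp hprime).irreducible

end Field

section Scheme

variable {A : Type u} [CommRing A] {n : ℕ} (P : MvPolynomial (Fin n) A)

/-- the family of hypersurfaces over the spectrum of the coefficient ring. -/
noncomputable abbrev fam : Spec (CommRingCat.of (B P)) ⟶ Spec (CommRingCat.of A) :=
  Spec.map (CommRingCat.ofHom (algebraMap A (B P)))

theorem isPullback_spec {κ : Type u} [CommRing κ] (ψ : A →+* κ) :
    IsPullback (Spec.map (CommRingCat.ofHom (β P ψ)))
      (Spec.map (CommRingCat.ofHom (algebraMap κ (Cq P ψ))))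
      (fam P) (Spec.map (CommRingCat.ofHom ψ)) :=
  isPullback_SpecMap_of_isPushout _ _ _ _ (isPushout_ring P ψ)

theorem exists_iso_of_generic [IsDomain A] {L : Type u} [Field L]
    (y : Spec (CommRingCat.of L) ⟶
      Spec ((Spec (CommRingCat.of A)).residueField (genericPoint ↥(Spec (CommRingCat.of A)))))
    {Z : Scheme.{u}}
    (fst : Z ⟶ (fam P).fiber (genericPoint ↥(Spec (CommRingCat.of A))))
    (snd : Z ⟶ Spec (CommRingCat.of L))
    (hsq : IsPullback fst snd
      ((fam P).fiberToSpecResidueField (genericPoint ↥(Spec (CommRingCat.of A)))) y) :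
    ∃ ψ : A →+* L, Function.Injective ψ ∧ Nonempty (Z ≅ Spec (CommRingCat.of (Cq P ψ))) := by
  have hbig : IsPullback
      (fst ≫ (fam P).fiberι (genericPoint ↥(Spec (CommRingCat.of A)))) snd (fam P)
      (y ≫ (Spec (CommRingCat.of A)).fromSpecResidueField
        (genericPoint ↥(Spec (CommRingCat.of A)))) :=
    hsq.paste_horiz (IsPullback.of_hasPullback (fam P)
      ((Spec (CommRingCat.of A)).fromSpecResidueField (genericPoint ↥(Spec (CommRingCat.of A)))))
  obtain ⟨ψ', hψ'⟩ := Spec.map_surjective
    (y ≫ (Spec (CommRingCat.of A)).fromSpecResidueField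
      (genericPoint ↥(Spec (CommRingCat.of A))))
  refine ⟨ψ'.hom, ?_, ⟨?_⟩⟩
  · obtain ⟨pt⟩ : Nonempty (PrimeSpectrum L) := inferInstance
    have hpt : (Spec.map ψ') pt = genericPoint ↥(Spec (CommRingCat.of A)) := by
      rw [hψ', Scheme.Hom.comp_apply, Scheme.fromSpecResidueField_apply]
    have h1 : PrimeSpectrum.asIdeal ((Spec.map ψ') pt) = Ideal.comap ψ'.hom pt.asIdeal := rfl
    have h2 : pt.asIdeal = ⊥ := (Ideal.eq_bot_or_top _).resolve_right pt.2.ne_top
    rw [hpt, genericPoint_eq_bot_of_affine (CommRingCat.of A), h2] at h1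
    rw [RingHom.injective_iff_ker_eq_bot]
    exact h1.symm
  · rw [← hψ'] at hbig
    exact hbig.isoIsPullback _ _ (isPullback_spec P ψ'.hom)

theorem prop_spec_of_geometrically {Q : ObjectProperty Scheme.{u}} {κ : Type u} [Field κ]
    (ψ : A →+* κ) (V : (Spec (CommRingCat.of A)).Opens)
    (hQ : geometrically Q (fam P ∣_ V))
    (hr : Set.range (Spec.map (CommRingCat.ofHom ψ)) ⊆ (V : Set ↥(Spec (CommRingCat.of A)))) :
    Q (Spec (CommRingCat.of (Cq P ψ))) := by
  have hr' : Set.range (Spec.map (CommRingCat.ofHom ψ)) ⊆ Set.range V.ι := by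
    rw [Scheme.Opens.range_ι]
    exact hr
  have hz' : IsOpenImmersion.lift V.ι (Spec.map (CommRingCat.ofHom ψ)) hr' ≫ V.ι =
      Spec.map (CommRingCat.ofHom ψ) := IsOpenImmersion.lift_fac _ _ _
  have houter := isPullback_spec P ψ
  rw [← hz'] at houter
  have hright := (isPullback_morphismRestrict (fam P) V).flip
  have hw : Spec.map (CommRingCat.ofHom (β P ψ)) ≫ fam P =
      (Spec.map (CommRingCat.ofHom (algebraMap κ (Cq P ψ))) ≫
        IsOpenImmersion.lift V.ι (Spec.map (CommRingCat.ofHom ψ)) hr') ≫ V.ι := by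
    rw [Category.assoc]
    exact houter.w
  have hsq : IsPullback (hright.lift (Spec.map (CommRingCat.ofHom (β P ψ)))
      (Spec.map (CommRingCat.ofHom (algebraMap κ (Cq P ψ))) ≫
        IsOpenImmersion.lift V.ι (Spec.map (CommRingCat.ofHom ψ)) hr') hw)
      (Spec.map (CommRingCat.ofHom (algebraMap κ (Cq P ψ)))) (fam P ∣_ V)
      (IsOpenImmersion.lift V.ι (Spec.map (CommRingCat.ofHom ψ)) hr') := by
    refine IsPullback.of_right ?_ (hright.lift_snd _ _ _) hright
    rw [hright.lift_fst]
    exact houter
  exact hQ _ _ _ hsq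

theorem main [IsDomain A]
    (hP : Irreducible (MvPolynomial.map (algebraMap A (AlgebraicClosure (FractionRing A))) P)) :
    ∃ f : A, f ≠ 0 ∧ ∀ (κ : Type u) [Field κ] (φ : Localization.Away f →+* κ),
      Irreducible (MvPolynomial.map (φ.comp (algebraMap A (Localization.Away f))) P) := by
  classical
  have hP0 : P ≠ 0 := by
    rintro rfl
    exact hP.ne_zero (map_zero _)
  obtain ⟨m, hm⟩ := MvPolynomial.ne_zero_iff.mp hP0
  have hinjIrr : ∀ (L : Type u) [Field L] (ψ : A →+* L), Function.Injective ψ →
      Irreducible (MvPolynomial.map ψ P) := by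
    intro L _ ψ hψ
    letI : Algebra (FractionRing A) L := (IsFractionRing.lift hψ).toAlgebra
    have h1 : Irreducible (MvPolynomial.map
        (algebraMap (FractionRing A) (AlgebraicClosure (FractionRing A)))
        (MvPolynomial.map (algebraMap A (FractionRing A)) P)) := by
      rw [MvPolynomial.map_map, ← IsScalarTower.algebraMap_eq]
      exact hP
    have h2 := Groth.Agent.S4824.Aux.irreducible_map_of_algClosed
      (AlgebraicClosure (FractionRing A)) L
      (MvPolynomial.map (algebraMap A (FractionRing A)) P) h1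
    rw [MvPolynomial.map_map] at h2
    have h3 : (algebraMap (FractionRing A) L).comp (algebraMap A (FractionRing A)) = ψ := by
      ext a
      exact IsFractionRing.lift_algebraMap hψ a
    rwa [h3] at h2
  haveI : LocallyOfFiniteType (fam P) := by
    rw [HasRingHomProperty.Spec_iff (P := @LocallyOfFiniteType)]
    exact RingHom.finiteType_algebraMap.mpr inferInstance
  have hGI : GeometricallyIrreducible
      ((fam P).fiberToSpecResidueField (genericPoint ↥(Spec (CommRingCat.of A)))) := by
    refine ⟨fun L _ y Z fst snd hsq => ?_⟩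
    obtain ⟨ψ, hψ, ⟨e⟩⟩ := exists_iso_of_generic P y fst snd hsq
    haveI := isDomain_of_irreducible P ψ (hinjIrr L ψ hψ)
    exact e.hom.homeomorph.irreducibleSpace_iff.mpr inferInstance
  have hGR : GeometricallyReduced
      ((fam P).fiberToSpecResidueField (genericPoint ↥(Spec (CommRingCat.of A)))) := by
    refine ⟨fun L _ y Z fst snd hsq => ?_⟩
    obtain ⟨ψ, hψ, ⟨e⟩⟩ := exists_iso_of_generic P y fst snd hsq
    haveI := isDomain_of_irreducible P ψ (hinjIrr L ψ hψ)
    exact isReduced_of_isOpenImmersion e.hom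
  obtain ⟨V, hVne, hV⟩ := Groth.Agent.Lib.Helper4.GIMain1.main (fam P) hGI
  obtain ⟨V', hV'ne, hV'⟩ :=
    Groth.Agent.Helper7.GeomRedGen.geometricallyReduced_morphismRestrict_near_generic (fam P) hGR
  obtain ⟨p₀, hp₀V, hp₀V'⟩ :
      ((V : Set ↥(Spec (CommRingCat.of A))) ∩ (V' : Set ↥(Spec (CommRingCat.of A)))).Nonempty :=
    nonempty_preirreducible_inter V.isOpen V'.isOpen hVne hV'ne
  obtain ⟨_, ⟨f₀, rfl⟩, hp₀f, hf₀⟩ := TopologicalSpace.Opens.isBasis_iff_nbhd.mp
    (PrimeSpectrum.isBasis_basic_opens (R := A)) (U := V ⊓ V') (x := p₀) ⟨hp₀V, hp₀V'⟩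
  have hf₀ne : f₀ ≠ 0 := by
    rintro rfl
    exact hp₀f (Ideal.zero_mem _)
  refine ⟨f₀ * MvPolynomial.coeff m P, mul_ne_zero hf₀ne hm, fun κ _ φ => ?_⟩
  have hu : IsUnit ((φ.comp (algebraMap A (Localization.Away (f₀ * MvPolynomial.coeff m P))))
      (f₀ * MvPolynomial.coeff m P)) :=
    (IsLocalization.Away.algebraMap_isUnit (f₀ * MvPolynomial.coeff m P)).map φ
  rw [map_mul] at hu
  have hne := hu.ne_zero
  rw [mul_ne_zero_iff] at hne
  have h0 : MvPolynomial.map
      (φ.comp (algebraMap A (Localization.Away (f₀ * MvPolynomial.coeff m P)))) P ≠ 0 := by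
    rw [MvPolynomial.ne_zero_iff]
    exact ⟨m, by rw [MvPolynomial.coeff_map]; exact hne.2⟩
  have hrange : Set.range (Spec.map (CommRingCat.ofHom
      (φ.comp (algebraMap A (Localization.Away (f₀ * MvPolynomial.coeff m P)))))) ⊆
      ((V ⊓ V' : (Spec (CommRingCat.of A)).Opens) : Set ↥(Spec (CommRingCat.of A))) := by
    rintro _ ⟨pt, rfl⟩
    apply hf₀
    show f₀ ∉ Ideal.comap
      (φ.comp (algebraMap A (Localization.Away (f₀ * MvPolynomial.coeff m P))))
      (PrimeSpectrum.asIdeal pt)
    rw [Ideal.mem_comap]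
    have h2 : PrimeSpectrum.asIdeal pt = ⊥ :=
      (Ideal.eq_bot_or_top _).resolve_right (PrimeSpectrum.isPrime pt).ne_top
    rw [h2, Ideal.mem_bot]
    exact hne.1
  haveI hirr : IrreducibleSpace ↥(Spec (CommRingCat.of (Cq P
      (φ.comp (algebraMap A (Localization.Away (f₀ * MvPolynomial.coeff m P))))))) :=
    prop_spec_of_geometrically (Q := (IrreducibleSpace ·)) P _ V
      hV.geometrically_irreducibleSpace (hrange.trans Set.inter_subset_left)
  haveI hred : IsReduced (Spec (CommRingCat.of (Cq P
      (φ.comp (algebraMap A (Localization.Away (f₀ * MvPolynomial.coeff m P))))))) :=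
    prop_spec_of_geometrically (Q := IsReduced) P _ V'
      hV'.geometrically_isReduced (hrange.trans Set.inter_subset_right)
  haveI hint : IsIntegral (Spec (CommRingCat.of (Cq P
      (φ.comp (algebraMap A (Localization.Away (f₀ * MvPolynomial.coeff m P))))))) :=
    isIntegral_of_irreducibleSpace_of_isReduced _
  haveI hdom : IsDomain (Cq P
      (φ.comp (algebraMap A (Localization.Away (f₀ * MvPolynomial.coeff m P))))) :=
    (affine_isIntegral_iff (CommRingCat.of _)).mp hint
  exact irreducible_of_isDomain P _ h0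

end Scheme

end Groth.Agent.Helper7.IrrSpec
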